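import Mathlib

/-!
Birkhoff factorisation of invertible Laurent polynomial matrices, by row reduction of polynomial
matrices.
-/

set_option autoImplicit false
universe u

namespace Groth.Agent.Birk36

open Finset Polynomial

variable {k : Type u} [Field k]

theorem invert_reflect {N : ℕ} {p : k[X]} (h : p.natDegree ≤ N) :
    LaurentPolynomial.T (N : ℤ) * LaurentPolynomial.invert (toLaurent (p.reflect N)) = toLaurent p := by
  refine Polynomial.induction_with_natDegree_le
    (fun q => LaurentPolynomial.T (N : ℤ) * LaurentPolynomial.invert (toLaurent (q.reflect N)) = toLaurent q)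
    N (by simp) ?_ ?_ p h
  · intro n r _ hn
    rw [reflect_C_mul_X_pow, revAt_le hn, toLaurent_C_mul_X_pow, toLaurent_C_mul_X_pow, map_mul,
      LaurentPolynomial.invert_C, LaurentPolynomial.invert_T, mul_left_comm, ← LaurentPolynomial.T_add]
    congr 2
    omega
  · intro f g _ _ hf hg
    rw [reflect_add, map_add, map_add, mul_add, hf, hg, map_add]

theorem isUnit_laurent {u : LaurentPolynomial k} (hu : IsUnit u) :
    ∃ (c : k) (m : ℤ), c ≠ 0 ∧ u = LaurentPolynomial.C c * LaurentPolynomial.T m := by
  obtain ⟨v, hv⟩ := hu.exists_right_inv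
  obtain ⟨n, f, hf⟩ := LaurentPolynomial.exists_T_pow u
  obtain ⟨m, g, hg⟩ := LaurentPolynomial.exists_T_pow v
  have hfg : f * g = X ^ (n + m) := by
    apply Polynomial.toLaurent_injective
    rw [map_mul, hf, hg, toLaurent_X_pow, Nat.cast_add, LaurentPolynomial.T_add]
    linear_combination (LaurentPolynomial.T (n : ℤ) * LaurentPolynomial.T (m : ℤ)) * hv
  obtain ⟨i, -, hi⟩ := (dvd_prime_pow Polynomial.prime_X _).1 ⟨g, hfg.symm⟩
  obtain ⟨w, hw⟩ := hi.symm
  obtain ⟨c, hc, hcw⟩ := Polynomial.isUnit_iff.1 w.isUnit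
  refine ⟨c, (i : ℤ) - n, hc.ne_zero, ?_⟩
  rw [LaurentPolynomial.T_sub, ← mul_assoc]
  have : toLaurent f = LaurentPolynomial.C c * LaurentPolynomial.T i := by
    rw [← hw, map_mul, toLaurent_X_pow, ← hcw, toLaurent_C, mul_comm]
  rw [← this, hf, mul_assoc, ← LaurentPolynomial.T_add, add_neg_cancel, LaurentPolynomial.T_zero, mul_one]

variable {n : ℕ}

/-- The degree of a row of a polynomial matrix. -/
noncomputable def rdeg (M : Matrix (Fin n) (Fin n) k[X]) (i : Fin n) : ℕ :=
  univ.sup fun j => (M i j).natDegree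

theorem le_rdeg (M : Matrix (Fin n) (Fin n) k[X]) (i j : Fin n) : (M i j).natDegree ≤ rdeg M i :=
  Finset.le_sup (f := fun j => (M i j).natDegree) (mem_univ j)

theorem exists_reduced {M : Matrix (Fin n) (Fin n) k[X]} (hM : M.det ≠ 0) :
    ∃ U : Matrix (Fin n) (Fin n) k[X], IsUnit U ∧
      (Matrix.of fun i j => ((U * M) i j).coeff (rdeg (U * M) i)).det ≠ 0 := by
  classical
  have hex : ∃ s, ∃ U : Matrix (Fin n) (Fin n) k[X], IsUnit U ∧ ∑ i, rdeg (U * M) i = s :=
    ⟨_, 1, isUnit_one, rfl⟩
  obtain ⟨U, hU, hs⟩ := Nat.find_spec hex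
  refine ⟨U, hU, fun hdet => ?_⟩
  set N := U * M with hN
  set d := rdeg N
  obtain ⟨c, hc0, hc⟩ := Matrix.exists_vecMul_eq_zero_iff.2 hdet
  obtain ⟨i0, hi0, hmax⟩ := (univ.filter fun i => c i ≠ 0).exists_max_image d
    (by
      obtain ⟨i, hi⟩ := Function.ne_iff.1 hc0
      exact ⟨i, by simpa using hi⟩)
  rw [mem_filter] at hi0
  let w : Fin n → k[X] := fun i => C (c i) * X ^ (d i0 - d i)
  set r : Fin n → k[X] := ∑ i, w i • N i
  have hr : ∀ j, r j = ∑ i, w i * N i j := fun j => by simp [r, Finset.sum_apply]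
  have hrdeg : ∀ j, (r j).natDegree ≤ d i0 := by
    intro j
    rw [hr]
    refine natDegree_sum_le_of_forall_le _ _ fun i _ => ?_
    rcases eq_or_ne (c i) 0 with h | h
    · simp [w, h]
    · refine (natDegree_mul_le.trans (add_le_add (natDegree_C_mul_X_pow_le _ _) (le_rdeg N i j))).trans ?_
      have h1 : d i ≤ d i0 := hmax i (by simp [h])
      show d i0 - d i + d i ≤ d i0
      omega
  have hrtop : ∀ j, (r j).coeff (d i0) = 0 := by
    intro j
    rw [hr, finsetSum_coeff]
    have := congrFun hc j
    simp only [Matrix.vecMul, dotProduct, Matrix.of_apply, Pi.zero_apply] at this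
    refine Eq.trans (sum_congr rfl fun i _ => ?_) this
    rcases eq_or_ne (c i) 0 with h | h
    · simp [w, h]
    · have h1 : d i ≤ d i0 := hmax i (by simp [h])
      simp only [w, mul_assoc, coeff_C_mul]
      congr 1
      rw [mul_comm, coeff_mul_X_pow', if_pos (Nat.sub_le _ _)]
      congr 1
      omega
  let U' := Matrix.updateRow U i0 (∑ i, w i • U i)
  have hwu : IsUnit (w i0) := by
    simp only [w, Nat.sub_self, pow_zero, mul_one]
    exact isUnit_C.2 hi0.2.isUnit
  have hU' : IsUnit U' := by
    rw [Matrix.isUnit_iff_isUnit_det, Matrix.det_updateRow_sum]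
    exact hwu.mul ((Matrix.isUnit_iff_isUnit_det _).1 hU)
  have hU'M : U' * M = Matrix.updateRow N i0 r := by
    rw [show U' * M = Matrix.updateRow (U * M) i0 (Matrix.vecMul (∑ i, w i • U i) M) from
      Matrix.updateRow_mul _ _ _ _]
    congr 1
    funext j
    simp only [hr, hN, Matrix.vecMul, dotProduct, Finset.sum_apply, Pi.smul_apply, smul_eq_mul,
      Matrix.mul_apply, Finset.sum_mul, Finset.mul_sum]
    rw [Finset.sum_comm]
    simp only [mul_assoc]
  have hrne : ∃ j, r j ≠ 0 := by
    by_contra h
    push Not at h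
    have h1 : (U' * M).det = 0 := by
      rw [hU'M]; exact Matrix.det_eq_zero_of_row_eq_zero i0 fun j => by simp [h j]
    rw [Matrix.det_mul] at h1
    exact hM ((mul_eq_zero.1 h1).resolve_left ((Matrix.isUnit_iff_isUnit_det _).1 hU').ne_zero)
  have hlt : rdeg (U' * M) i0 < d i0 := by
    have hle : rdeg (U' * M) i0 ≤ d i0 := Finset.sup_le fun j _ => by simpa [hU'M] using hrdeg j
    refine lt_of_le_of_ne hle fun heq => ?_
    obtain ⟨j, hj⟩ := hrne
    rcases Nat.eq_zero_or_pos (d i0) with h0 | h0
    · refine hj (Polynomial.ext fun m => ?_)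
      rcases Nat.eq_zero_or_pos m with hm | hm
      · rw [hm, coeff_zero]; exact h0 ▸ hrtop j
      · rw [coeff_zero]; exact coeff_eq_zero_of_natDegree_lt (by have := hrdeg j; omega)
    · have : rdeg (U' * M) i0 ≤ d i0 - 1 := Finset.sup_le fun j _ => by
        simp only [hU'M, Matrix.updateRow_self]
        exact natDegree_le_pred (hrdeg j) (hrtop j)
      omega
  have hsum : ∑ i, rdeg (U' * M) i < ∑ i, d i := by
    refine Finset.sum_lt_sum (fun i _ => ?_) ⟨i0, mem_univ _, hlt⟩
    rcases eq_or_ne i i0 with rfl | hi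
    · exact hlt.le
    · exact le_of_eq (Finset.sup_congr rfl fun j _ => by rw [hU'M, Matrix.updateRow_ne hi])
  have := Nat.find_min' hex ⟨U', hU', rfl⟩
  have hs' : ∑ i, d i = Nat.find hex := hs
  omega

theorem exists_birkhoff (A : Matrix (Fin n) (Fin n) (LaurentPolynomial k)) (hA : IsUnit A) :
    ∃ (P Q : Matrix (Fin n) (Fin n) k[X]) (d : Fin n → ℤ),
      IsUnit P ∧ IsUnit Q ∧ Antitone d ∧
        A = P.map (toLaurent (R := k)) * Matrix.diagonal (fun i => LaurentPolynomial.T (d i)) *
          (Q.map (toLaurent (R := k))).map LaurentPolynomial.invert := by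
  classical
  choose e f hef using fun i j => LaurentPolynomial.exists_T_pow (A i j)
  obtain ⟨N, hN⟩ : ∃ N, ∀ i j, e i j ≤ N :=
    ⟨univ.sup fun i => univ.sup fun j => e i j, fun i j =>
      (Finset.le_sup (f := fun j => e i j) (mem_univ j)).trans
        (Finset.le_sup (f := fun i => univ.sup fun j => e i j) (mem_univ i))⟩
  let M : Matrix (Fin n) (Fin n) k[X] := fun i j => f i j * X ^ (N - e i j)
  have hMA : M.map (toLaurent (R := k)) = (LaurentPolynomial.T (N : ℤ) : LaurentPolynomial k) • A := by
    ext1 i j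
    rw [Matrix.map_apply, Matrix.smul_apply, smul_eq_mul, map_mul, hef, toLaurent_X_pow, mul_assoc,
      ← LaurentPolynomial.T_add, mul_comm]
    congr 2
    have := hN i j; omega
  obtain ⟨c, m, hc, hdetA⟩ := isUnit_laurent ((Matrix.isUnit_iff_isUnit_det _).1 hA)
  have hdetM : toLaurent M.det = LaurentPolynomial.C c * LaurentPolynomial.T (m + n * (N : ℤ)) := by
    rw [RingHom.map_det, RingHom.mapMatrix_apply, hMA, Matrix.det_smul, hdetA, Fintype.card_fin,
      LaurentPolynomial.T_pow, LaurentPolynomial.T_add]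
    ring
  have hM0 : M.det ≠ 0 := by
    intro h
    rw [h, map_zero] at hdetM
    rcases mul_eq_zero.1 hdetM.symm with h' | h'
    · exact hc (by simpa using congrArg (fun p => p.coeff 0) h')
    · exact (LaurentPolynomial.isUnit_T _).ne_zero h'
  obtain ⟨U, hU, hred⟩ := exists_reduced hM0
  set N' := U * M with hN'
  set d := rdeg N'
  let Q : Matrix (Fin n) (Fin n) k[X] := fun i j => (N' i j).reflect (d i)
  have hfac : N'.map (toLaurent (R := k)) = Matrix.diagonal (fun i => LaurentPolynomial.T (d i : ℤ)) *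
      (Q.map (toLaurent (R := k))).map LaurentPolynomial.invert := by
    ext1 i j
    rw [Matrix.diagonal_mul, Matrix.map_apply, Matrix.map_apply, Matrix.map_apply]
    exact (invert_reflect (le_rdeg N' i j)).symm
  have hQ0 : Q.det.coeff 0 ≠ 0 := by
    show (Polynomial.constantCoeff (R := k)) Q.det ≠ 0
    rw [RingHom.map_det, RingHom.mapMatrix_apply]
    convert hred using 3
    funext i j
    show (reflect (d i) (N' i j)).coeff 0 = _
    simp [coeff_reflect]
  obtain ⟨u, hu, huU⟩ := Polynomial.isUnit_iff.1 ((Matrix.isUnit_iff_isUnit_det _).1 hU)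
  have hQ : IsUnit Q := by
    rw [Matrix.isUnit_iff_isUnit_det]
    have e1 := congrArg Matrix.det hfac
    rw [show ((Q.map (toLaurent (R := k))).map LaurentPolynomial.invert) =
        (LaurentPolynomial.invert.toRingEquiv.toRingHom).mapMatrix ((toLaurent (R := k)).mapMatrix Q) from rfl,
      Matrix.det_mul, ← RingHom.map_det, ← RingHom.map_det, Matrix.det_diagonal,
      show N'.map (toLaurent (R := k)) = (toLaurent (R := k)).mapMatrix N' from rfl, ← RingHom.map_det, hN',
      Matrix.det_mul, map_mul, hdetM, ← huU, toLaurent_C] at e1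
    have hT : ∀ s : Finset (Fin n), ∏ i ∈ s, LaurentPolynomial.T (d i : ℤ) =
        (LaurentPolynomial.T (∑ i ∈ s, (d i : ℤ)) : LaurentPolynomial k) := by
      intro s
      induction s using Finset.induction with
      | empty => simp [LaurentPolynomial.T_zero]
      | insert a t ha ih => rw [prod_insert ha, sum_insert ha, LaurentPolynomial.T_add, ih]
    rw [hT] at e1
    set s : ℤ := ∑ i, (d i : ℤ)
    set q := toLaurent Q.det
    have e2 : q = LaurentPolynomial.C (u * c) * LaurentPolynomial.T (s - (m + n * N)) := by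
      have e3 : LaurentPolynomial.invert q =
          LaurentPolynomial.C (u * c) * LaurentPolynomial.T (-s + (m + n * N)) := by
        have := congrArg (LaurentPolynomial.T (-s) * ·) e1
        simp only [← mul_assoc, ← LaurentPolynomial.T_add, neg_add_cancel, LaurentPolynomial.T_zero,
          one_mul] at this
        refine Eq.trans ?_ (this.symm.trans ?_)
        · rfl
        · rw [map_mul, LaurentPolynomial.T_add (-s) (m + n * N)]; ring
      have := congrArg LaurentPolynomial.invert e3
      rw [map_mul, LaurentPolynomial.invert_C, LaurentPolynomial.invert_T,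
        LaurentPolynomial.involutive_invert q] at this
      rw [this]
      congr 2
      ring
    have hz : s - (m + n * (N : ℤ)) = 0 := by
      by_contra hne
      apply hQ0
      have := congrArg (fun p : LaurentPolynomial k => p.coeff 0) e2
      have hl : q.coeff 0 = Q.det.coeff 0 := by
        show (toLaurent Q.det).coeff ((0 : ℕ) : ℤ) = _
        rw [LaurentPolynomial.coeff_toLaurent]
        exact Finsupp.mapDomain_apply Int.ofNat_injective _ _
      rw [← hl]
      refine this.trans ?_
      rw [← LaurentPolynomial.single_eq_C_mul_T]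
      exact Finsupp.single_eq_of_ne (Ne.symm hne)
    rw [hz, LaurentPolynomial.T_zero, mul_one, ← toLaurent_C] at e2
    rw [Polynomial.toLaurent_injective e2]
    exact isUnit_C.2 (hu.mul hc.isUnit)
  obtain ⟨V, hVU⟩ := hU.exists_left_inv
  have hV : IsUnit V := IsUnit.of_mul_eq_one (a := V) U hVU
  have hAeq : A = V.map (toLaurent (R := k)) * Matrix.diagonal (fun i => LaurentPolynomial.T ((d i : ℤ) - N)) *
      (Q.map (toLaurent (R := k))).map LaurentPolynomial.invert := by
    have e : (LaurentPolynomial.T (N : ℤ) : LaurentPolynomial k) • A = V.map (toLaurent (R := k)) *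
        (Matrix.diagonal (fun i => LaurentPolynomial.T (d i : ℤ)) * (Q.map (toLaurent (R := k))).map LaurentPolynomial.invert) := by
      rw [← hfac, ← hMA, ← Matrix.map_mul, hN', ← Matrix.mul_assoc, hVU, one_mul]
    have := congrArg ((LaurentPolynomial.T (-(N : ℤ)) : LaurentPolynomial k) • ·) e
    simp only [smul_smul, ← LaurentPolynomial.T_add, neg_add_cancel, LaurentPolynomial.T_zero, one_smul] at this
    rw [this, ← Matrix.mul_smul, ← Matrix.smul_mul, ← Matrix.diagonal_smul, mul_assoc]
    congr 3
    funext i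
    rw [Pi.smul_apply, smul_eq_mul, ← LaurentPolynomial.T_add]
    congr 1
    ring
  let σ := Tuple.sort fun i => -((d i : ℤ) - N)
  refine ⟨V.submatrix id σ, Q.submatrix σ id, fun i => (d (σ i) : ℤ) - N, ?_, ?_, ?_, ?_⟩
  · exact (Matrix.isUnit_submatrix_equiv (Equiv.refl _) σ).2 hV
  · exact (Matrix.isUnit_submatrix_equiv σ (Equiv.refl _)).2 hQ
  · intro a b hab
    have := Tuple.monotone_sort (fun i => -((d i : ℤ) - N)) hab
    simp only [Function.comp_apply] at this
    linarith
  · rw [← Matrix.submatrix_map, ← Matrix.submatrix_map, ← Matrix.submatrix_map,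
      show (Matrix.diagonal fun i => LaurentPolynomial.T ((d (σ i) : ℤ) - N)) =
        (Matrix.diagonal fun i => (LaurentPolynomial.T ((d i : ℤ) - N) : LaurentPolynomial k)).submatrix σ σ from
        (Matrix.submatrix_diagonal_equiv (fun i => (LaurentPolynomial.T ((d i : ℤ) - N) : LaurentPolynomial k)) σ).symm,
      Matrix.submatrix_mul_equiv, Matrix.submatrix_mul_equiv, ← hAeq, Matrix.submatrix_id_id]

end Groth.Agent.Birk36
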